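import Cfsg.Agent.Fusion92.Layer.Mod
import Cfsg.Agent.Lib.Fusion.Quasisimple
import Cfsg.Agent.Lib.Fusion.NormalCore
import Cfsg.Agent.Lib.Fusion.NormalCentralizerMain

/-!
# Components centralize normal subgroups
-/

set_option autoImplicit false

namespace Cfsg.Agent.Fusion92.Layer

open Cfsg Cfsg.Agent.Fusion Cfsg.Agent.Fusion.NormalLift
open Cfsg.FusionSystem (normalizerIn centralizerIn imageAlong)

variable {Ω : Type*} [Group Ω] {p : ℕ}

/-- A normal subgroup of a quasisimple system is central. -/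
theorem normal_le_center [Fact p.Prime] {S : Subgroup Ω} [Finite S] (hS : IsPGroup p S) {F : FusionSystem S}
    (hq : F.Quasisimple p) {Q : Subgroup Ω} (hQ : F.IsNormal Q) : Q ≤ F.center := by
  obtain ⟨hF, hhyp, hsimp⟩ := hq
  have hZc := Fusion91.stronglyClosed_center F
  obtain ⟨E, hE⟩ := Fusion91.exists_factor_mk' F hZc
  have hα := S5134.result p hS F hF F.center hZc _ E hE
  obtain ⟨hEs, hne, hs⟩ := hsimp E hE
  haveI : Finite (⊤ : Subgroup (S ⧸ (F.center).subgroupOf S)) := inferInstance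
  have hR := Fusion.isNormal_imageAlong hα hQ
  have hSt : IsPGroup p (⊤ : Subgroup (S ⧸ (F.center).subgroupOf S)) := (hS.to_quotient _).to_subgroup ⊤
  rcases hs _ _ (Fusion.inner_isNormalIn_of_normal hSt hEs hR) with hbot | ⟨htop, hall⟩
  · intro x hx
    refine (hE.2.1 ⟨x, hQ.1 hx⟩).1 ?_
    rw [← Subgroup.mem_bot, ← hbot]
    exact Fusion91.mem_imageAlong.2 ⟨⟨x, hQ.1 hx⟩, hx, rfl⟩
  · have hb : F.hyperfocalSubgroup p = ⊥ := by
      refine Fusion.hyperfocal_eq_bot_of_inner_mod hS (Fusion91.isCentral_center F) fun P f hf => ?_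
      obtain ⟨g, hg, hge⟩ := Fusion91.exists_push_map hα hf
      obtain ⟨φ, hφ, hφg⟩ := hg
      rw [← hall] at hφ
      obtain ⟨hP', r, hr, hre⟩ := hφ
      obtain ⟨t, rfl⟩ := QuotientGroup.mk'_surjective _ r
      refine ⟨t, t.2, fun x hx => ?_⟩
      have hxS := hf.dom_le hx
      have hfS := hf.apply_mem hx
      have h1 := hge x hx
      have hxi : QuotientGroup.mk' ((F.center).subgroupOf S) ⟨x, hxS⟩ ∈
          imageAlong (QuotientGroup.mk' ((F.center).subgroupOf S)) P :=
        Fusion91.mem_imageAlong.2 ⟨⟨x, hxS⟩, hx, rfl⟩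
      rw [Fusion91.push_of_mem hxS, Fusion91.push_of_mem hfS, ← hφg ⟨_, hxi⟩, hre] at h1
      refine (hE.2.1 ((t * ⟨x, hxS⟩ * t⁻¹)⁻¹ * ⟨f x, hfS⟩)).1 ?_
      rw [map_mul, map_inv, map_mul, map_mul, map_inv, ← h1]
      exact inv_mul_cancel _
    rw [hhyp] at hb
    refine absurd (eq_bot_iff.2 fun y _ => ?_) hne
    obtain ⟨x, rfl⟩ := QuotientGroup.mk'_surjective _ y
    rw [Subgroup.mem_bot, hE.2.1, Subgroup.mem_bot.1 (hb.le x.2)]
    exact Subgroup.one_mem _

theorem fix_of_coprime [Fact p.Prime] {S U : Subgroup Ω} [Finite S] {F : FusionSystem S} {D : FusionSystem U}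
    (h : NData F D p) {Q : Subgroup Ω} (hQ : F.IsNormal Q) {P : Subgroup Ω} (hP : P ≤ U) {a : MulAut P}
    (ha : ExtendsFix D (Q ⊓ U) P (autFun a)) (ho : (orderOf a).Coprime p) :
    ExtendsFix F Q P (autFun a) := by
  obtain ⟨e, he, hee, heW⟩ := ha
  obtain ⟨g, hg, hge, hgw⟩ := modExt h hQ _ e he
  set L := P ⊔ Q with hL
  have hLS : L ≤ S := sup_le (hP.trans h.tS) hQ.1
  have hle : L ≤ (P ⊔ (Q ⊓ U)) ⊔ Q := sup_le_sup_right le_sup_left Q
  haveI := finite_of_le hLS
  haveI := finite_mulAut L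
  haveI := finite_of_le (hP.trans h.tS)
  have hgP : ∀ x ∈ P, g x = autFun a x := fun x hx =>
    (hge (Subgroup.mem_sup_left hx)).trans (hee hx)
  have hgL : ∀ x ∈ L, g x ∈ L := isMap_mem_sup (hg.mono hle) le_sup_left le_sup_right
    (fun x hx => Subgroup.mem_sup_left (by rw [hgP x hx]; exact PrimeIndex.autFun_mem a hx))
    fun x hx => Subgroup.mem_sup_right (by
      have := Q.mul_mem hx (hgw x hx).1
      rwa [mul_inv_cancel_left] at this)
  obtain ⟨g₁, hg₁, hg₁e⟩ := (isIso_of_mapsTo (hg.mono hle) hLS hgL le_rfl).exists_aut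
  obtain ⟨m, hm, ham⟩ := exists_pow_coprime (p := p) (⟨g₁, hg₁⟩ : F.autGroup L) a ho
  have hg₁i := (mem_autGroup hLS).mp hg₁
  have hgW : ∀ w ∈ Q ⊓ U, autFun g₁ w = w := fun w hw => by
    rw [hg₁e (Subgroup.mem_sup_right hw.1), hge (Subgroup.mem_sup_right hw), heW w hw]
  have hpowP : ∀ j : ℕ, ∀ x ∈ P, autFun (g₁ ^ j) x = autFun (a ^ j) x := by
    intro j
    induction j with
    | zero => intro x hx; rw [pow_zero, pow_zero, autFun_one hx, autFun_one (Subgroup.mem_sup_left hx : x ∈ L)]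
    | succ j ih =>
      intro x hx
      rw [pow_succ', pow_succ', autFun_mul _ _ (Subgroup.mem_sup_left hx : x ∈ L), autFun_mul _ _ hx,
        Function.comp_apply, Function.comp_apply, ih x hx,
        hg₁e (Subgroup.mem_sup_left (PrimeIndex.autFun_mem (a ^ j) hx)), hgP _ (PrimeIndex.autFun_mem (a ^ j) hx)]
  have hpowQ : ∀ q ∈ Q, ∀ j : ℕ, autFun (g₁ ^ j) q = q * (q⁻¹ * g q) ^ j := by
    intro q hq j
    induction j with
    | zero => rw [pow_zero, pow_zero, autFun_one (Subgroup.mem_sup_right hq : q ∈ L), mul_one]; rfl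
    | succ j ih =>
      have hw : (q⁻¹ * g q) ^ j ∈ Q ⊓ U := Subgroup.pow_mem _ (hgw q hq) j
      rw [pow_succ' g₁, autFun_mul _ _ (Subgroup.mem_sup_right hq : q ∈ L), Function.comp_apply, ih,
        hg₁i.1.map_mul (Subgroup.mem_sup_right hq) (Subgroup.mem_sup_right hw.1), hgW _ hw,
        hg₁e (Subgroup.mem_sup_right hq), pow_succ', ← mul_assoc, mul_inv_cancel_left]
  have hfix : ∀ q ∈ Q, autFun (g₁ ^ m) q = q := fun q hq => by
    set d := q⁻¹ * g q with hd
    have h1 : (d ^ m) ^ orderOf (g₁ ^ m) = 1 := by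
      have := hpowQ q hq (m * orderOf (g₁ ^ m))
      rw [pow_mul, pow_orderOf_eq_one, autFun_one (Subgroup.mem_sup_right hq : q ∈ L), id, ← hd,
        pow_mul, left_eq_mul] at this
      exact this
    obtain ⟨k, hk⟩ := h.pgroup ⟨d, h.tS (hgw q hq).2⟩
    have h2 : (d ^ m) ^ p ^ k = 1 := by
      rw [← pow_mul, mul_comm, pow_mul, show d ^ p ^ k = 1 from congrArg Subtype.val hk, one_pow]
    have hm' : (orderOf (g₁ ^ m)).Coprime p := by
      have : orderOf ((⟨g₁, hg₁⟩ : F.autGroup L) ^ m) = orderOf (g₁ ^ m) := by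
        rw [← Subgroup.orderOf_coe, Subgroup.coe_pow]
      rwa [← this]
    have h3 : d ^ m ∈ (⊥ : Subgroup Ω) := TClass.mem_of_pow_of_pow (Subgroup.mem_bot.2 h1)
      (Subgroup.mem_bot.2 h2) (hm'.pow_right k)
    rw [hpowQ q hq m, ← hd, Subgroup.mem_bot.1 h3, mul_one]
  exact ⟨autFun (g₁ ^ m), ((mem_autGroup hLS).mp ((F.autGroup L).pow_mem hg₁ m)).1,
    fun x hx => by rw [hpowP m x hx, ham], hfix⟩

theorem component_fix {T : Subgroup Ω} {C : FusionSystem T} {S : Subgroup Ω} {F : FusionSystem S}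
    (hsub : C.IsSubnormalIn F p) : ∀ [Fact p.Prime], C.Quasisimple p →
    Finite S → IsPGroup p S → F.IsSaturated p → ∀ Q, F.IsNormal Q →
      (∀ t ∈ T, t ∈ Subgroup.centralizer (Q : Set Ω)) ∧ ∀ P f, IsMap C P f → ExtendsFix F Q P f := by
  induction hsub with
  | refl F' p =>
    intro _ hq _ hS _ Q hQ
    have hle := normal_le_center hS hq hQ
    refine ⟨fun t ht => Subgroup.mem_centralizer_iff.2 fun y hy => (F'.center_le_centralizer (hle hy) t ht).symm,
      fun P f hf => ?_⟩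
    exact extendsFix_mono ((isCentral_iff.1 (Fusion91.isCentral_center F')).2 P f hf) le_rfl hle
  | @step U S' C' D F' p hCD hDF ih =>
    intro _ hq hfin hS hF Q hQ
    have h : NData F' D p := ⟨hS, hF, hDF⟩
    haveI := hfin
    haveI := h.finiteT
    have hTU := Fusion91.le_of_subnormal hCD
    haveI := finite_of_le hTU
    obtain ⟨-, hfixW⟩ := ih hq inferInstance h.tp h.eSat _ (w_normal h hQ)
    have hTp := h.tp.to_le hTU
    have hcop : ∀ {P : Subgroup Ω} (a : C'.autGroup P), P ≤ T → (orderOf a).Coprime p →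
        ExtendsFix F' Q P (autFun (a : MulAut P)) := fun {P} a hP ha =>
      fix_of_coprime h hQ (hP.trans hTU) (hfixW P _ ((mem_autGroup hP).mp a.2).1)
        (by rwa [Subgroup.orderOf_coe])
    have hTS : T ≤ S' := hTU.trans h.tS
    have hone : ∀ {P : Subgroup Ω}, P ≤ T → ExtendsFix F' Q P (autFun (1 : MulAut P)) := fun hP =>
      ⟨id, isMap_id (sup_le (hP.trans hTS) hQ.1), fun x hx => (autFun_one hx).symm, fun _ _ => rfl⟩
    have hmul : ∀ {P : Subgroup Ω} (a b : MulAut P), ExtendsFix F' Q P (autFun a) →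
        ExtendsFix F' Q P (autFun b) → ExtendsFix F' Q P (autFun (a * b)) := fun a b ha hb =>
      (hb.comp ha fun x hx => PrimeIndex.autFun_mem _ hx).congr (autFun_mul a b).symm
    let A : ∀ {P : Subgroup Ω}, P ≤ T → Subgroup (C'.autGroup P) := fun {P} hP =>
      { carrier := {a | ExtendsFix F' Q P (autFun (a : MulAut P))}
        one_mem' := hone hP
        mul_mem' := fun {a b} ha hb => hmul _ _ ha hb
        inv_mem' := fun {a} ha => by
          haveI := finite_of_le hP
          haveI := finite_mulAut P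
          obtain ⟨n, hn⟩ : ∃ n : ℕ, a⁻¹ = a ^ n := ⟨orderOf a - 1, by
            rw [inv_eq_iff_mul_eq_one, ← pow_succ', Nat.sub_add_cancel (orderOf_pos a), pow_orderOf_eq_one]⟩
          show ExtendsFix F' Q P (autFun ((a⁻¹ : C'.autGroup P) : MulAut P))
          rw [hn]
          clear hn
          induction n with
          | zero => exact hone hP
          | succ n ihn =>
            rw [pow_succ]
            exact hmul _ _ ihn ha }
    -- `T` centralizes `Q`
    have hTc : ∀ t ∈ T, t ∈ Subgroup.centralizer (Q : Set Ω) := by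
      intro t ht
      rw [← hq.2.1] at ht
      induction ht using Subgroup.closure_induction with
      | mem z hz =>
        obtain ⟨P, α, x, hP, hα, rfl⟩ := hz
        haveI := finite_of_le hP
        haveI := finite_mulAut P
        have hαA : α ∈ A hP := Transfer.pResidual_le_iff.2 (fun b hb => hcop b hP hb) hα
        obtain ⟨g, hg, hge, hgQ⟩ := hαA
        refine Subgroup.mem_centralizer_iff.2 fun q hq' => ?_
        have hxS : (x : Ω) ∈ S' := hTS (hP x.2)
        have h1 : (x : Ω) * q * (x : Ω)⁻¹ ∈ Q :=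
          conj_mem_of_mem_normalizer (normal_le_normalizer hQ hxS) hq'
        have h2 := hg.map_conj (Subgroup.mem_sup_left x.2) (Subgroup.mem_sup_right hq')
        rw [hgQ _ h1, hgQ q hq', hge x.2, autFun_coe] at h2
        set y := (((α : MulAut P) x : P) : Ω) with hy
        calc q * ((x : Ω)⁻¹ * y) = (x : Ω)⁻¹ * ((x : Ω) * q * (x : Ω)⁻¹) * y := by group
          _ = (x : Ω)⁻¹ * (y * q * y⁻¹) * y := by rw [h2]
          _ = (x : Ω)⁻¹ * y * q := by group
      | one => exact Subgroup.one_mem _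
      | mul _ _ _ _ h1 h2 => exact Subgroup.mul_mem _ h1 h2
      | inv _ _ h1 => exact Subgroup.inv_mem _ h1
    refine ⟨hTc, alperin_induction_cr hTp hq.1 (fun P f => ExtendsFix F' Q P f)
      (fun P f g hf he => hf.congr he)
      (fun P P' f g hf _ hCf hCg => hCf.comp hCg fun x hx => hf.mem hx)
      (fun P P' f _ hle hf => extendsFix_mono hf hle le_rfl) ?_⟩
    intro V hVc _ hVn f hf
    have hVT := hVc.1
    haveI := finite_of_le hVT
    haveI := finite_mulAut V
    obtain ⟨Y, hY⟩ := (fullyAutomized_of_fullyNormalized hTp hq.1 hVn).2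
    have hAtop : A hVT = ⊤ := by
      refine eq_top_of_sylow_coprime Y _ (fun a ha => ?_) fun a ha => hcop a hVT ha
      rw [hY, Subgroup.mem_subgroupOf, mem_autInducedBy] at ha
      obtain ⟨t, ht, hta⟩ := ha
      refine ⟨fun x => t * x * t⁻¹, isMap_conj (sup_le (hVT.trans hTS) hQ.1) (hTS ht),
        fun x hx => by rw [autFun_of_mem _ hx, hta ⟨x, hx⟩], fun q hq' => ?_⟩
      show t * q * t⁻¹ = q
      rw [← Subgroup.mem_centralizer_iff.1 (hTc t ht) q hq', mul_inv_cancel_right]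
    obtain ⟨α, hα, he⟩ := hf.exists_aut
    exact ExtendsFix.congr (hAtop.ge (Subgroup.mem_top (⟨α, hα⟩ : C'.autGroup V)) : _) he

/-- Every component is a subsystem of the centralizer system of a normal subgroup. -/
theorem component_sub [Fact p.Prime] {S : Subgroup Ω} [Finite S] (hS : IsPGroup p S) {F : FusionSystem S}
    (hF : F.IsSaturated p) {Q : Subgroup Ω} (hQ : F.IsNormal Q) {T : Subgroup Ω} {C : FusionSystem T}
    (hC : C.IsComponentIn F p) : C.IsSubsystemOf (centralizerSystem F Q hQ.1) := by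
  obtain ⟨hT, hfix⟩ := component_fix hC.1 hC.2 inferInstance hS hF Q hQ
  have hTS := Fusion91.le_of_subnormal hC.1
  intro P
  refine hom_subset_of_isMap fun f hf => ?_
  obtain ⟨g, hg, hge, hgQ⟩ := hfix P f hf
  refine (IsCentralizerSystem.isMap_iff (isCentralizerSystem_centralizerSystem Q hQ.1)).mpr
    ⟨(hg.mono le_sup_left).congr hge, hf.dom_le.trans fun t ht => ⟨hTS ht, hT t ht⟩,
      fun x hx => ⟨hTS (hf.apply_mem hx), hT _ (hf.apply_mem hx)⟩, g, hg, hge, hgQ⟩

end Cfsg.Agent.Fusion92.Layer
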