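import Cfsg.Agent.Fusion92.TClass.Basic
import Cfsg.Agent.Fusion92.TClass.GroupStep
import Cfsg.Agent.Lib.Fusion.NormalCentralizer
import Cfsg.Agent.Lib.Fusion.Normal
import Cfsg.Agent.PrimeIndex.Basic

/-!
# The maps of a normal subsystem act trivially on a normal subgroup modulo its intersection

For a normal subgroup `Q` of `F` and a normal subsystem `D` over `U`, every map of `D` extends to a
map on the source and `Q` that is trivial on `Q` modulo `Q ∩ U`.
-/

set_option autoImplicit false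

namespace Cfsg.Agent.Fusion92.Layer

open Cfsg Cfsg.Agent.Fusion Cfsg.Agent.Fusion.NormalLift
open Cfsg.FusionSystem (normalizerIn centralizerIn)

variable {Ω : Type*} [Group Ω] {S U Q : Subgroup Ω} {F : FusionSystem S} {D : FusionSystem U} {p : ℕ}

/-- `f` extends to `Q`, trivially modulo `W`. -/
def ModExt (F : FusionSystem S) (Q W P : Subgroup Ω) (f : Ω → Ω) : Prop :=
  ∃ g, IsMap F (P ⊔ Q) g ∧ Set.EqOn g f P ∧ ∀ q ∈ Q, q⁻¹ * g q ∈ W

theorem ModExt.congr {W P : Subgroup Ω} {f f' : Ω → Ω} (h : ModExt F Q W P f) (he : Set.EqOn f f' P) :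
    ModExt F Q W P f' :=
  let ⟨g, hg, hge, hgw⟩ := h; ⟨g, hg, hge.trans he, hgw⟩

theorem ModExt.mono {W P P' : Subgroup Ω} {f : Ω → Ω} (h : ModExt F Q W P f) (hle : P' ≤ P) :
    ModExt F Q W P' f :=
  let ⟨g, hg, hge, hgw⟩ := h; ⟨g, hg.mono (sup_le_sup_right hle Q), hge.mono hle, hgw⟩

theorem ModExt.comp {W P P₁ : Subgroup Ω} {f f₁ : Ω → Ω} (hWQ : W ≤ Q)
    (hW : ∀ R h, IsMap F R h → ∀ x ∈ R, x ∈ W → h x ∈ W)
    (h : ModExt F Q W P f) (h₁ : ModExt F Q W P₁ f₁) (hm : ∀ x ∈ P, f x ∈ P₁) :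
    ModExt F Q W P (f₁ ∘ f) := by
  obtain ⟨g, hg, hge, hgw⟩ := h
  obtain ⟨g₁, hg₁, hg₁e, hg₁w⟩ := h₁
  have hmem : ∀ x ∈ P ⊔ Q, g x ∈ P₁ ⊔ Q := isMap_mem_sup hg le_sup_left le_sup_right
    (fun x hx => Subgroup.mem_sup_left (hge hx ▸ hm x hx))
    fun x hx => Subgroup.mem_sup_right (by
      have := Q.mul_mem hx (hWQ (hgw x hx))
      rwa [mul_inv_cancel_left] at this)
  refine ⟨g₁ ∘ g, hg.comp hg₁ hmem, fun x hx => ?_, fun q hq => ?_⟩
  · rw [Function.comp_apply, hge hx, hg₁e (hm x hx)]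
    rfl
  · have hw := hgw q hq
    rw [Function.comp_apply, show g q = q * (q⁻¹ * g q) by group,
      hg₁.map_mul (Subgroup.mem_sup_right hq) (Subgroup.mem_sup_right (hWQ hw)), ← mul_assoc]
    exact W.mul_mem (hg₁w q hq) (hW _ _ hg₁ _ (Subgroup.mem_sup_right (hWQ hw)) hw)

/-- Every normal `p`-subgroup of the automizer in `D` is inner. -/
def Rad (D : FusionSystem U) (p : ℕ) (R : Subgroup Ω) : Prop :=
  ∀ N : Subgroup (D.autGroup R), N.Normal → IsPGroup p N → ∀ α ∈ N, (α : MulAut R) ∈ Cfsg.Inn R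

theorem rad_of_isRadical {R : Subgroup Ω} (hr : D.IsRadical p R) : Rad D p R := fun N hN hNp α hα => by
  rw [← hr.2]
  exact ⟨α, Subgroup.mem_sSup_of_mem (show N ∈ {M : Subgroup (D.autGroup R) | M.Normal ∧ IsPGroup p M} from ⟨hN, hNp⟩) hα, rfl⟩

variable [Finite S] [Fact p.Prime]

theorem closed_w (h : NData F D p) (hQ : F.IsNormal Q) :
    ∀ R g, IsMap F R g → ∀ x ∈ R, x ∈ Q ⊓ U → g x ∈ Q ⊓ U := fun _ _ hg _ hx hxW =>
  ⟨Fusion92.closed_apply (stronglyClosed_of_normal hQ) hg hx hxW.1,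
    Fusion92.closed_apply h.closed hg hx hxW.2⟩

theorem transfer_mem (h : NData F D p) {V R : Subgroup Ω} {θ : Ω → Ω} (hθ : IsIso F V R θ) (hV : V ≤ U)
    {α : MulAut V} (hα : α ∈ D.autGroup V) : MulAut.congr hθ.equiv α ∈ D.autGroup R := by
  have hi := (mem_autGroup hV).mp hα
  obtain ⟨χ, hχ, hχe⟩ := h.strongInv V R V (autFun α) θ le_rfl hV hi.1 (fun x hx => hi.mem hx) hθ.1 hθ
  refine autGroup_mem_of_isMap (hχ.congr fun y hy => ?_)
  obtain ⟨x, hx, rfl⟩ := hθ.exists_preimage hy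
  rw [hχe x hx, NormalLift.autFun_congr hθ α hx]

theorem rad_transfer (h : NData F D p) {V R : Subgroup Ω} {θ : Ω → Ω} (hθ : IsIso F V R θ) (hV : V ≤ U)
    (hr : Rad D p V) : Rad D p R := by
  intro N hN hNp α hα
  obtain ⟨θi, hθi, hl, hrr⟩ := hθ.exists_inv
  have hRU : R ≤ U := fun y hy => by
    obtain ⟨x, hx, rfl⟩ := hθ.exists_preimage hy
    exact Fusion92.closed_apply h.closed hθ.1 hx (hV hx)
  let ψ : D.autGroup V →* D.autGroup R :=
    ((MulAut.congr hθ.equiv).toMonoidHom.comp (D.autGroup V).subtype).codRestrict _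
      fun a => transfer_mem h hθ hV a.2
  have hψ : Function.Injective ψ := fun a b hab =>
    Subtype.ext ((MulAut.congr hθ.equiv).injective (congrArg Subtype.val hab))
  set a₀ : MulAut V := MulAut.congr hθi.equiv (α : MulAut R) with ha₀
  have ha₀D : a₀ ∈ D.autGroup V := transfer_mem h hθi hRU α.2
  have hback : ψ ⟨a₀, ha₀D⟩ = α := by
    refine Subtype.ext (MulEquiv.ext fun y => Subtype.ext ?_)
    obtain ⟨x, hx, hxy⟩ := hθ.exists_preimage y.2
    show ((MulAut.congr hθ.equiv a₀ y : R) : Ω) = ((α : MulAut R) y : Ω)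
    rw [← autFun_coe, ← autFun_coe (α : MulAut R), ← hxy, NormalLift.autFun_congr hθ a₀ hx]
    obtain ⟨x', rfl⟩ : ∃ x', x = θi x' := ⟨θ x, (hl x hx).symm⟩
    rw [ha₀]
    have hx'' : θ (θi x') ∈ R := hθ.mem hx
    rw [show θi x' = θi (θ (θi x')) from (hl _ hx).symm, NormalLift.autFun_congr hθi (α : MulAut R) hx'',
      hrr _ (PrimeIndex.autFun_mem _ hx''), hl _ hx]
  have h1 := hr (N.comap ψ) (hN.comap ψ) (hNp.comap_of_injective ψ hψ) ⟨a₀, ha₀D⟩
    (by rw [Subgroup.mem_comap, hback]; exact hα)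
  obtain ⟨v, hv, hve⟩ := mem_inn.mp h1
  refine mem_inn.mpr ⟨θ v, hθ.mem hv, fun y => ?_⟩
  obtain ⟨x, hx, hxy⟩ := hθ.exists_preimage y.2
  have h2 : ((MulAut.congr hθ.equiv a₀ y : R) : Ω) = ((α : MulAut R) y : Ω) :=
    congrArg (fun a : D.autGroup R => (((a : MulAut R) y : R) : Ω)) hback
  rw [← h2, ← autFun_coe, ← hxy, NormalLift.autFun_congr hθ a₀ hx, autFun_of_mem a₀ hx,
    hve ⟨x, hx⟩, hθ.1.map_conj hv hx]

/-- `Q ∩ U` is normal in `D`. -/
theorem w_normal (h : NData F D p) (hQ : F.IsNormal Q) : D.IsNormal (Q ⊓ U) := by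
  haveI := h.finiteT
  refine isNormal_of_closed_le h.tp h.eSat (stronglyClosed_iff.mpr ⟨inf_le_right,
    fun R g hg x hx hxW => closed_w h hQ R g (hg.of_isSubsystemOf h.sub) x hx hxW⟩) fun V hc hr => ?_
  refine le_of_normalizer_le h.tp hc.1 inf_le_right (hc.1.trans fun u hu => ?_) fun g hg hgV => ?_
  · haveI := finite_of_le (inf_le_left.trans hQ.1 : Q ⊓ U ≤ S)
    refine Subgroup.mem_normalizer_fintype fun x hx => ⟨?_, U.mul_mem (U.mul_mem hu hx.2) (U.inv_mem hu)⟩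
    exact conj_mem_of_mem_normalizer (normal_le_normalizer hQ (h.tS hu)) hx.1
  let N : Subgroup (D.autGroup V) := (autInducedBy (Q ⊓ U) V).subgroupOf (D.autGroup V)
  have hVS := hc.1.trans h.tS
  have hN : N.Normal := by
    refine ⟨fun β hβ α => ?_⟩
    rw [Subgroup.mem_subgroupOf, mem_autInducedBy] at hβ ⊢
    obtain ⟨q, hq, hqβ⟩ := hβ
    obtain ⟨f', hf', he, -⟩ := normal_extendsStab (Q := Q) hQ
      (((mem_autGroup hc.1).mp α.2).1.of_isSubsystemOf h.sub)
    refine ⟨f' q, closed_w h hQ _ _ hf' q (Subgroup.mem_sup_right hq.1) hq, fun x => ?_⟩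
    obtain ⟨y, rfl⟩ := (α : MulAut V).surjective x
    simp only [Subgroup.coe_mul, Subgroup.coe_inv, MulAut.mul_apply]
    rw [show ((α : MulAut V)⁻¹) ((α : MulAut V) y) = y from (α : MulAut V).symm_apply_apply y,
      ← autFun_coe, ← he (Subtype.mem _), hqβ, hf'.map_conj (Subgroup.mem_sup_right hq.1) (Subgroup.mem_sup_left y.2),
      he y.2, autFun_coe]
  have hp : IsPGroup p N := by
    have h1 : IsPGroup p (autInducedBy (Q ⊓ U) V) :=
      range_conjAutHom (Q ⊓ U) V ▸ (h.tp.to_le ((Fusion.normalizerIn_le _ V).trans inf_le_right)).of_surjective _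
        (conjAutHom (Q ⊓ U) V).rangeRestrict_surjective
    exact h1.comap_of_injective _ (Subgroup.subtype_injective _)
  have hgS : g ∈ normalizerIn U V := ⟨hg.2, hgV⟩
  have hm : conjAutHom U V ⟨g, hgS⟩ ∈ autInducedBy U V := by
    rw [← range_conjAutHom]; exact ⟨_, rfl⟩
  exact mem_of_normal_pSubgroup hc hr N hN hp hgS ⟨_, autInducedBy_le_autGroup hc.1 hm⟩
    (Subgroup.mem_subgroupOf.mpr (mem_autInducedBy.mpr ⟨g, hg, fun x => rfl⟩)) fun x => rfl

omit [Fact p.Prime] in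
theorem receptive_of_centric (hS : IsPGroup p S) [Fact p.Prime] (hF : F.IsSaturated p) {M : Subgroup Ω}
    (hM : F.IsCentric M) : F.IsReceptive M := by
  refine receptive_of_fullyCentralized hS hF ⟨hM.1, fun Q hQ => ?_⟩
  obtain ⟨f, hf⟩ := isConj_iff.mp hQ
  obtain ⟨fi, hfi, -, -⟩ := hf.exists_inv
  have hQc := hM.2 Q hQ
  refine card_le_of_injOn (centralizerIn_le _ _) (hfi.1.injOn.mono hQc) fun c hc => ?_
  have hcQ := hQc hc
  refine ⟨hfi.1.apply_mem hcQ, Subgroup.mem_centralizer_iff.mpr fun v hv => ?_⟩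
  obtain ⟨q, hq, rfl⟩ := hfi.exists_preimage hv
  rw [← hfi.1.map_mul hq hcQ, ← hfi.1.map_mul hcQ hq, Subgroup.mem_centralizer_iff.mp hc.2 q hq]

/-- The key case: an automorphism of order prime to `p` at a fully normalized subgroup. -/
theorem mod_at_normalized (h : NData F D p) (hQ : F.IsNormal Q) {R : Subgroup Ω}
    (hRn : F.IsFullyNormalized R) (hc : D.IsCentric R) (hW : Q ⊓ U ≤ R) (hr : Rad D p R) {a : MulAut R}
    (ha : a ∈ D.autGroup R) (ho : (orderOf a).Coprime p) : ModExt F Q (Q ⊓ U) R (autFun a) := by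
  haveI := h.finiteT
  have hRU := hc.1
  have hRS := hRn.1
  set C := centralizerIn S R with hC
  set M := R ⊔ C with hM
  have hMS : M ≤ S := sup_le hRS (centralizerIn_le _ _)
  haveI := finite_of_le hRS
  haveI := finite_of_le hMS
  haveI := finite_mulAut R
  have hQn := normal_le_normalizer hQ
  have hqR : ∀ q ∈ Q, q ∈ Subgroup.normalizer (R : Set Ω) := fun q hq => by
    refine Subgroup.mem_normalizer_fintype fun r hr' => ?_
    have h1 : r⁻¹ * (q * r * q⁻¹) ∈ Q ⊓ U := by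
      refine ⟨?_, U.mul_mem (U.inv_mem (hRU hr')) (h.conj_t (hQ.1 hq) (hRU hr'))⟩
      rw [show r⁻¹ * (q * r * q⁻¹) = r⁻¹ * q * r⁻¹⁻¹ * q⁻¹ by group]
      exact Q.mul_mem (conj_mem_of_mem_normalizer (hQn (S.inv_mem (hRS hr'))) hq) (Q.inv_mem hq)
    have := R.mul_mem hr' (hW h1)
    rwa [mul_inv_cancel_left] at this
  have hCn : ∀ {s c : Ω}, s ∈ S → s ∈ Subgroup.normalizer (R : Set Ω) → c ∈ C → s * c * s⁻¹ ∈ C := by
    intro s c hs hsn hc'
    refine ⟨S.mul_mem (S.mul_mem hs hc'.1) (S.inv_mem hs), Subgroup.mem_centralizer_iff.mpr fun y hy => ?_⟩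
    have h1 : s⁻¹ * y * s ∈ R := by simpa using conj_mem_of_mem_normalizer (Subgroup.inv_mem _ hsn) hy
    have h2 := Subgroup.mem_centralizer_iff.mp hc'.2 _ h1
    calc y * (s * c * s⁻¹) = s * (s⁻¹ * y * s * c) * s⁻¹ := by group
      _ = s * (c * (s⁻¹ * y * s)) * s⁻¹ := by rw [h2]
      _ = s * c * s⁻¹ * y := by group
  have hqM : ∀ q ∈ Q, ∀ x ∈ M, q * x * q⁻¹ ∈ M := fun q hq x hx => by
    have : M.map (MulAut.conj q).toMonoidHom ≤ M := by
      rw [hM, Subgroup.map_sup]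
      refine sup_le ?_ ?_
      · rintro _ ⟨y, hy, rfl⟩
        exact Subgroup.mem_sup_left (conj_mem_of_mem_normalizer (hqR q hq) hy)
      · rintro _ ⟨y, hy, rfl⟩
        exact Subgroup.mem_sup_right (hCn (hQ.1 hq) (hqR q hq) hy)
    exact this ⟨x, hx, rfl⟩
  obtain ⟨γ, hγ, hγe, hγc⟩ := h.exists_lift hRn hRU (hc.2 R (isConj_refl hRU)) a ha
  have hγi := (mem_autGroup hMS).mp hγ
  have hai := (mem_autGroup hRU).mp ha
  have haF : a ∈ F.autGroup R := autGroup_mono (h.sub R) ha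
  -- the action of `Q` on `R`
  obtain ⟨f₁, hf₁, hf₁e, hf₁Q⟩ := normal_extendsStab (Q := Q) hQ (hai.1.of_isSubsystemOf h.sub)
  have key : ∀ q ∈ Q, ∃ v ∈ R, ∀ r ∈ R,
      autFun a (q * r * q⁻¹) = v * (q * autFun a r * q⁻¹) * v⁻¹ := by
    intro q hq
    set b : MulAut R := conjAutHom S R ⟨q, hQ.1 hq, hqR q hq⟩ with hb
    have hbA : b ∈ F.autGroup R := autInducedBy_le_autGroup hRS (by rw [← range_conjAutHom]; exact ⟨_, rfl⟩)
    have hN : ((autInducedBy Q R).subgroupOf (D.autGroup R)).Normal := by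
      refine ⟨fun β hβ α => ?_⟩
      rw [Subgroup.mem_subgroupOf, mem_autInducedBy] at hβ ⊢
      obtain ⟨q', hq', hqβ⟩ := hβ
      obtain ⟨f', hf', he, hQ'⟩ := normal_extendsStab (Q := Q) hQ
        (((mem_autGroup hRU).mp α.2).1.of_isSubsystemOf h.sub)
      refine ⟨f' q', by rw [← SetLike.mem_coe, ← hQ']; exact ⟨q', hq', rfl⟩, fun x => ?_⟩
      obtain ⟨y, rfl⟩ := (α : MulAut R).surjective x
      simp only [Subgroup.coe_mul, Subgroup.coe_inv, MulAut.mul_apply]
      rw [show ((α : MulAut R)⁻¹) ((α : MulAut R) y) = y from (α : MulAut R).symm_apply_apply y,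
        ← autFun_coe, ← he (Subtype.mem _), hqβ, hf'.map_conj (Subgroup.mem_sup_right hq') (Subgroup.mem_sup_left y.2),
        he y.2, autFun_coe]
    have hNp : IsPGroup p ((autInducedBy Q R).subgroupOf (D.autGroup R)) :=
      (range_conjAutHom Q R ▸ (h.pgroup.to_le ((Fusion.normalizerIn_le Q R).trans hQ.1)).of_surjective _
        (conjAutHom Q R).rangeRestrict_surjective : IsPGroup p (autInducedBy Q R)).comap_of_injective _
          (Subgroup.subtype_injective _)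
    have hmemD : a * b * a⁻¹ * b⁻¹ ∈ D.autGroup R := by
      have h1 := NormalLift.autGroup_conj_mem h hRU (inv_mem ha) hbA
      rw [show a * b * a⁻¹ * b⁻¹ = a * (b * a⁻¹ * b⁻¹) by group]
      exact mul_mem ha h1
    have hmemQ : a * b * a⁻¹ * b⁻¹ ∈ autInducedBy Q R := by
      refine mul_mem ?_ (inv_mem (by rw [hb, mem_autInducedBy]; exact ⟨q, hq, fun x => rfl⟩))
      rw [mem_autInducedBy]
      refine ⟨f₁ q, by rw [← SetLike.mem_coe, ← hf₁Q]; exact ⟨q, hq, rfl⟩, fun x => ?_⟩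
      obtain ⟨y, rfl⟩ := a.surjective x
      rw [MulAut.mul_apply, MulAut.mul_apply, show a⁻¹ (a y) = y from a.symm_apply_apply y]
      rw [← autFun_coe a, ← autFun_coe a y, ← hf₁e y.2, ← hf₁e (b y).2]
      exact hf₁.map_conj (Subgroup.mem_sup_right hq) (Subgroup.mem_sup_left y.2)
    obtain ⟨v, hv, hve⟩ := mem_inn.mp (hr _ hN hNp ⟨_, hmemD⟩ hmemQ)
    refine ⟨v, hv, fun r hr' => ?_⟩
    have h1 := hve ((b * a) ⟨r, hr'⟩)
    rw [show (a * b * a⁻¹ * b⁻¹) ((b * a) ⟨r, hr'⟩) = (a * b) ⟨r, hr'⟩ by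
      rw [← MulAut.mul_apply]; congr 1; group] at h1
    rw [autFun_of_mem a hr', autFun_of_mem a (conj_mem_of_mem_normalizer (hqR q hq) hr')]
    exact h1
  have hRMg : ∀ x ∈ R, autFun γ x = autFun a x := fun x hx => hγe hx
  -- `γ` extends to `Q`
  have hext : IsExtendable S M (autFun γ) Q := by
    refine ⟨hQ.1, fun q hq => ⟨Subgroup.mem_normalizer_fintype (hqM q hq), ?_⟩⟩
    obtain ⟨v, hv, hve⟩ := key q hq
    have hqS := hQ.1 hq
    have hvS := hRS hv
    set u := v * q with hu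
    have huS : u ∈ S := S.mul_mem hvS hqS
    have huM : ∀ x ∈ M, u * x * u⁻¹ ∈ M := fun x hx => by
      have := M.mul_mem (M.mul_mem (Subgroup.mem_sup_left hv) (hqM q hq x hx)) (M.inv_mem (Subgroup.mem_sup_left hv))
      rwa [show v * (q * x * q⁻¹) * v⁻¹ = u * x * u⁻¹ by rw [hu]; group] at this
    -- `δ` compares the two actions
    obtain ⟨γi, hγii, hγl, hγr⟩ := hγi.exists_inv
    set δ : Ω → Ω := fun x => u⁻¹ * autFun γ (q * γi x * q⁻¹) * u with hδ
    have hm1 : ∀ x ∈ M, q * γi x * q⁻¹ ∈ M := fun x hx => hqM q hq _ (hγii.mem hx)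
    have hδM : IsMap F M δ := by
      refine (((hγii.1.comp (isMap_conj hMS hqS) fun x hx => hγii.mem hx).comp hγi.1 hm1).comp
        (isMap_conj hMS (S.inv_mem huS)) fun x hx => hγi.mem (hm1 x hx)).congr fun x _ => ?_
      simp [hδ]
    have hδR : ∀ r ∈ R, δ r = r := fun r hr' => by
      obtain ⟨r₀, hr₀, rfl⟩ := hai.exists_preimage hr'
      show u⁻¹ * autFun γ (q * γi (autFun a r₀) * q⁻¹) * u = autFun a r₀
      rw [← hRMg r₀ hr₀, hγl r₀ (Subgroup.mem_sup_left hr₀), hRMg _ hr₀,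
        hRMg _ (conj_mem_of_mem_normalizer (hqR q hq) hr₀), hve r₀ hr₀, hu]
      group
    have hun : u ∈ Subgroup.normalizer (R : Set Ω) := Subgroup.mul_mem _ (R.le_normalizer hv) (hqR q hq)
    have hδC : ∀ c ∈ C, δ c ∈ C := fun c hc' =>
      Fusion.map_mem_centralizer hδM le_sup_left ((Set.image_congr hδR).trans (Set.image_id' _))
        (Subgroup.mem_sup_right hc') hc'.2
    -- it is trivial modulo `R`
    have hR : ∀ {x y : Ω}, x ∈ R → y ∈ Subgroup.normalizer (R : Set Ω) → y⁻¹ * x * y ∈ R := fun hx hy => by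
      simpa using conj_mem_of_mem_normalizer (Subgroup.inv_mem _ hy) hx
    have hCN : ∀ {c : Ω}, c ∈ C → c ∈ Subgroup.normalizer (R : Set Ω) := fun hc' =>
      Subgroup.centralizer_le_normalizer _ hc'.2
    have hδmod : ∀ c ∈ C, c⁻¹ * δ c ∈ R := fun c hc' => by
      obtain ⟨c₀, hc₀M, hce⟩ : ∃ c₀ ∈ C, autFun γ c₀ = c := by
        refine surjOn_of_card_le (centralizerIn_le S R)
          (hγi.1.injOn.mono fun x hx => (Subgroup.mem_sup_right hx : x ∈ M)) (fun x hx => ?_) le_rfl c hc'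
        exact Fusion.map_mem_centralizer hγi.1 le_sup_left ((Set.image_congr hRMg).trans hai.2)
          (Subgroup.mem_sup_right hx) hx.2
      have hd := hγc c₀ hc₀M
      set d := c₀⁻¹ * autFun γ c₀ with hdd
      have hc₁ : q * c₀ * q⁻¹ ∈ C := hCn hqS (hqR q hq) hc₀M
      have hd₁ := hγc _ hc₁
      set d₁ := (q * c₀ * q⁻¹)⁻¹ * autFun γ (q * c₀ * q⁻¹) with hdd₁
      have hv' : v⁻¹ * (q * c₀ * q⁻¹) * v = q * c₀ * q⁻¹ := by
        rw [mul_assoc, ← Subgroup.mem_centralizer_iff.mp hc₁.2 v hv, inv_mul_cancel_left]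
      show c⁻¹ * (u⁻¹ * autFun γ (q * γi c * q⁻¹) * u) ∈ R
      rw [← hce, hγl c₀ (Subgroup.mem_sup_right hc₀M),
        show autFun γ (q * c₀ * q⁻¹) = q * c₀ * q⁻¹ * d₁ by rw [hdd₁]; group,
        show autFun γ c₀ = c₀ * d by rw [hdd]; group,
        show u⁻¹ * (q * c₀ * q⁻¹ * d₁) * u = q⁻¹ * (v⁻¹ * (q * c₀ * q⁻¹) * v) * q * (u⁻¹ * d₁ * u) by
          rw [hu]; group,
        hv', show (c₀ * d)⁻¹ * (q⁻¹ * (q * c₀ * q⁻¹) * q * (u⁻¹ * d₁ * u)) = d⁻¹ * (u⁻¹ * d₁ * u) by group]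
      exact R.mul_mem (R.inv_mem hd) (hR hd₁ hun)
    haveI := finite_of_le (centralizerIn_le S R)
    set E₃ := centralizerSystem F R hRS with hE₃
    have hE₃iff : ∀ {P : Subgroup Ω} {g : Ω → Ω}, IsMap E₃ P g ↔ IsMap F P g ∧ P ≤ C ∧
        (∀ x ∈ P, g x ∈ C) ∧ ExtendsFix F R P g :=
      fun {P g} => IsCentralizerSystem.isMap_iff (isCentralizerSystem_centralizerSystem R hRS)
    have hE₃s : E₃.IsSaturated p := centralizerSystem_isSaturated h.pgroup h.sat (h.centralized hRn)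
    have hCp : IsPGroup p C := h.pgroup.to_le (centralizerIn_le _ _)
    have hδ₃ : IsIso E₃ C C δ := isIso_of_mapsTo (hE₃iff.mpr ⟨hδM.mono le_sup_right, le_rfl, hδC, δ,
      hδM.mono (sup_comm _ _).le, fun _ _ => rfl, hδR⟩) le_rfl hδC le_rfl
    obtain ⟨d, hd, hde⟩ := hδ₃.exists_aut
    haveI := finite_mulAut C
    have hAZ : ∀ b' ∈ E₃.autGroup C, ∀ w : C, (w : Ω) ∈ R → b' w = w := fun b' hb' w hw => Subtype.ext (by
      obtain ⟨-, -, -, g', -, hg'e, hg'R⟩ := hE₃iff.mp ((mem_autGroup le_rfl).mp hb').1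
      rw [← autFun_coe b', ← hg'e w.2]
      exact hg'R w hw)
    have hdfix : d ∈ fixMod C R := by
      refine ⟨hAZ d hd, fun w => ?_⟩
      rw [Subgroup.coe_mul, Subgroup.coe_inv, ← autFun_coe d, hde w.2]
      exact hδmod w w.2
    obtain ⟨Y, hY⟩ := (fullyAutomized_of_fullyNormalized hCp hE₃s (fullyNormalized_self (F := E₃))).2
    haveI := fixMod_normal (Z := R) (E₃.autGroup C) fun b' hb' w hw => by rw [hAZ b' hb' w hw]; exact hw
    have hle : (fixMod C R).subgroupOf (E₃.autGroup C) ≤ Y := by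
      refine le_trans le_sup_left (Y.is_maximal' ?_ le_sup_right).le
      exact IsPGroup.to_sup_of_normal_left
        ((fixMod_isPGroup hCp).comap_of_injective _ (Subgroup.subtype_injective _)) Y.isPGroup'
    have hmem := hle (show (⟨d, hd⟩ : E₃.autGroup C) ∈ (fixMod C R).subgroupOf (E₃.autGroup C) from hdfix)
    rw [hY, Subgroup.mem_subgroupOf, ← range_conjAutHom] at hmem
    obtain ⟨⟨w, hw⟩, hwe⟩ := hmem
    have hδw : Set.EqOn δ (fun x => w * x * w⁻¹) (M : Set Ω) :=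
      eqOn_sup hδM (isMap_conj hMS hw.1.1) le_sup_left le_sup_right
        (fun r hr' => by
          show δ r = w * r * w⁻¹
          rw [hδR r hr', Subgroup.mem_centralizer_iff.mp hw.1.2 r hr' |>.symm]
          group)
        (fun c hc' => by
          show δ c = w * c * w⁻¹
          rw [← hde hc', autFun_of_mem d hc', ← show conjAutHom C C ⟨w, hw⟩ = d from hwe]
          rfl)
    refine ⟨u * w * u⁻¹ * u, by rw [inv_mul_cancel_right]; exact S.mul_mem huS hw.1.1, fun x hx => ?_⟩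
    have h1 := hδw (hγi.mem hx)
    simp only [hδ, hγl x hx] at h1
    rw [inv_mul_cancel_right, show autFun γ (q * x * q⁻¹) = u * (u⁻¹ * autFun γ (q * x * q⁻¹) * u) * u⁻¹ by group, h1]
    group
  have hMc : F.IsCentric M := PrimeIndex.isCentric_sup_centralizer (h.centralized hRn)
  obtain ⟨g₀, hg₀, hg₀e⟩ := receptive_extend (receptive_of_centric h.pgroup h.sat hMc) hγi hext
  set L := M ⊔ Q with hL
  have hLS : L ≤ S := sup_le hMS hQ.1
  haveI := finite_of_le hLS
  haveI := finite_mulAut L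
  have hg₀L : ∀ x ∈ L, g₀ x ∈ L := isMap_mem_sup hg₀ le_sup_left le_sup_right
    (fun x hx => Subgroup.mem_sup_left (hg₀e hx ▸ hγi.mem hx))
    fun x hx => Subgroup.mem_sup_right
      (Fusion92.closed_apply (stronglyClosed_of_normal hQ) hg₀ (Subgroup.mem_sup_right hx) hx)
  obtain ⟨g₁, hg₁, hg₁e⟩ := (isIso_of_mapsTo hg₀ hLS hg₀L le_rfl).exists_aut
  obtain ⟨m, hm, ham⟩ := exists_pow_coprime (p := p) (⟨g₁, hg₁⟩ : F.autGroup L) a ho
  have hg₁i := (mem_autGroup hLS).mp hg₁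
  have hRL : R ≤ L := le_sup_left.trans le_sup_left
  have hg₁R : ∀ r ∈ R, autFun g₁ r = autFun a r := fun r hr' =>
    (hg₁e (hRL hr')).trans ((hg₀e (Subgroup.mem_sup_left hr')).trans (hRMg r hr'))
  have hpow : ∀ j : ℕ, (∀ r ∈ R, autFun (g₁ ^ j) r = autFun (a ^ j) r) ∧
      ∀ c ∈ C, c⁻¹ * autFun (g₁ ^ j) c ∈ R := by
    intro j
    induction j with
    | zero =>
      refine ⟨fun r hr' => ?_, fun c hc' => ?_⟩
      · rw [pow_zero, pow_zero, autFun_one (hRL hr'), autFun_one hr']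
      · rw [pow_zero, autFun_one (Subgroup.mem_sup_left (Subgroup.mem_sup_right hc') : c ∈ L), id, inv_mul_cancel]
        exact one_mem _
    | succ j ih =>
      refine ⟨fun r hr' => ?_, fun c hc' => ?_⟩
      · rw [pow_succ', pow_succ', autFun_mul _ _ (hRL hr'), autFun_mul _ _ hr', Function.comp_apply,
          Function.comp_apply, ih.1 r hr', hg₁R _ (PrimeIndex.autFun_mem _ hr')]
      · set e := c⁻¹ * autFun (g₁ ^ j) c with he
        have heR : e ∈ R := ih.2 c hc'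
        have hcM : c ∈ M := Subgroup.mem_sup_right hc'
        have hgc : autFun g₁ c = autFun γ c := (hg₁e (Subgroup.mem_sup_left hcM)).trans (hg₀e hcM)
        rw [pow_succ', autFun_mul _ _ (Subgroup.mem_sup_left hcM : c ∈ L), Function.comp_apply,
          show autFun (g₁ ^ j) c = c * e by rw [he]; group,
          hg₁i.1.map_mul (Subgroup.mem_sup_left hcM) (hRL heR), ← mul_assoc, hgc, hg₁R e heR]
        exact R.mul_mem (hγc c hc') (PrimeIndex.autFun_mem a heR)
  set g := g₁ ^ m with hgd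
  have hgF : g ∈ F.autGroup L := (F.autGroup L).pow_mem hg₁ m
  have hgi := (mem_autGroup hLS).mp hgF
  obtain ⟨hgR, hgC⟩ := hpow m
  rw [ham] at hgR
  refine ⟨autFun g, hgi.1.mono (sup_le_sup_right le_sup_left Q), fun r hr' => hgR r hr', fun q hq => ?_⟩
  have hqL : q ∈ L := Subgroup.mem_sup_right hq
  have hgq : autFun g q ∈ Q := Fusion92.closed_apply (stronglyClosed_of_normal hQ) hgi.1 hqL hq
  set W := Q ⊓ U with hWdef
  have hmodW : ∀ w ∈ M, w ∈ Q → w⁻¹ * autFun g w ∈ W := fun w hw hwQ => by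
    have h1 : w ∈ ((C ⊔ R : Subgroup Ω) : Set Ω) := sup_comm R C ▸ hw
    rw [Subgroup.coe_mul_of_left_le_normalizer_right C R fun c hc' =>
      Subgroup.centralizer_le_normalizer _ hc'.2] at h1
    obtain ⟨c, hc', r, hr', hwe⟩ := Set.mem_mul.mp h1
    have hwR : w⁻¹ * autFun g w ∈ R := by
      rw [← hwe, hgi.1.map_mul (Subgroup.mem_sup_left (Subgroup.mem_sup_right hc')) (hRL hr'), hgR r hr',
        show (c * r)⁻¹ * (autFun g c * autFun a r) = r⁻¹ * (c⁻¹ * autFun g c) * autFun a r by group]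
      exact R.mul_mem (R.mul_mem (R.inv_mem hr') (hgC c hc')) (PrimeIndex.autFun_mem a hr')
    exact ⟨Q.mul_mem (Q.inv_mem hwQ) (Fusion92.closed_apply (stronglyClosed_of_normal hQ) hgi.1
      (Subgroup.mem_sup_right hwQ) hwQ), hRU hwR⟩
  set d := q⁻¹ * autFun g q with hd
  have hdQ : d ∈ Q := Q.mul_mem (Q.inv_mem hq) hgq
  have hdM : d ∈ M := by
    obtain ⟨v, hv, hve⟩ := key q hq
    set u := v * q with hu
    have huc : u⁻¹ * autFun g q ∈ C := by
      refine ⟨S.mul_mem (S.inv_mem (S.mul_mem (hRS hv) (hQ.1 hq))) (hQ.1 hgq),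
        Subgroup.mem_centralizer_iff.mpr fun y hy => ?_⟩
      obtain ⟨r, hr', rfl⟩ := hai.exists_preimage hy
      have h1 : autFun g q * autFun a r * (autFun g q)⁻¹ = u * autFun a r * u⁻¹ := by
        have h2 := hgi.1.map_conj hqL (hRL hr')
        rw [hgR r hr', hgR _ (conj_mem_of_mem_normalizer (hqR q hq) hr'), hve r hr'] at h2
        rw [← h2, hu]; group
      calc autFun a r * (u⁻¹ * autFun g q) = u⁻¹ * (u * autFun a r * u⁻¹) * autFun g q := by group
        _ = u⁻¹ * (autFun g q * autFun a r * (autFun g q)⁻¹) * autFun g q := by rw [h1]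
        _ = u⁻¹ * autFun g q * autFun a r := by group
    have hqv : q⁻¹ * v * q ∈ R := by
      simpa using conj_mem_of_mem_normalizer (Subgroup.inv_mem _ (hqR q hq)) hv
    rw [hd, show q⁻¹ * autFun g q = q⁻¹ * v * q * (u⁻¹ * autFun g q) by rw [hu]; group]
    exact M.mul_mem (Subgroup.mem_sup_left hqv) (Subgroup.mem_sup_right huc)
  have hWM : W ≤ M := hW.trans le_sup_left
  have hit : ∀ j : ℕ, (d ^ j)⁻¹ * (q⁻¹ * autFun (g ^ j) q) ∈ W := by
    intro j
    induction j with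
    | zero =>
      rw [pow_zero, pow_zero, autFun_one hqL]
      simp [one_mem]
    | succ j ih =>
      set w := q⁻¹ * autFun (g ^ j) q with hw
      have hwQM : w ∈ M ∧ w ∈ Q := by
        have h1 : d ^ j * ((d ^ j)⁻¹ * w) = w := by group
        exact ⟨h1 ▸ M.mul_mem (M.pow_mem hdM j) (hWM ih), h1 ▸ Q.mul_mem (Q.pow_mem hdQ j) ih.1⟩
      rw [pow_succ' g, autFun_mul _ _ hqL, Function.comp_apply,
        show autFun (g ^ j) q = q * w by rw [hw]; group,
        hgi.1.map_mul hqL (Subgroup.mem_sup_left hwQM.1),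
        show (d ^ (j + 1))⁻¹ * (q⁻¹ * (autFun g q * autFun g w)) =
          (d ^ j)⁻¹ * d⁻¹ * (q⁻¹ * autFun g q) * w * (w⁻¹ * autFun g w) by rw [pow_succ']; group,
        ← hd, inv_mul_cancel_right]
      exact W.mul_mem ih (hmodW w hwQM.1 hwQM.2)
  have hd_o : d ^ orderOf g ∈ W := by
    have := hit (orderOf g)
    rw [pow_orderOf_eq_one, autFun_one hqL, id, inv_mul_cancel, mul_one] at this
    simpa using W.inv_mem this
  obtain ⟨k, hk⟩ := h.pgroup ⟨d, hQ.1 hdQ⟩
  refine TClass.mem_of_pow_of_pow hd_o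
    (by rw [show d ^ p ^ k = 1 from congrArg Subtype.val hk]; exact one_mem _) ?_
  have hm' : (orderOf g).Coprime p := by
    rw [hgd]
    have : orderOf ((⟨g₁, hg₁⟩ : F.autGroup L) ^ m) = orderOf (g₁ ^ m) := by
      rw [← Subgroup.orderOf_coe, Subgroup.coe_pow]
    rwa [← this]
  exact hm'.pow_right k

/-- Every map of `D` extends to `Q`, trivially modulo `Q ∩ U`. -/
theorem modExt (h : NData F D p) (hQ : F.IsNormal Q) :
    ∀ P f, IsMap D P f → ModExt F Q (Q ⊓ U) P f := by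
  haveI := h.finiteT
  refine alperin_induction_cr h.tp h.eSat (fun P f => ModExt F Q (Q ⊓ U) P f)
    (fun P f g hf he => hf.congr he)
    (fun P P' f g hf _ hCf hCg => hCf.comp inf_le_left (closed_w h hQ) hCg fun x hx => hf.mem hx)
    (fun P P' f _ hle hf => hf.mono hle) ?_
  intro V hVc hVr hVn f hf
  have hVU := hVc.1
  have hVS := hVU.trans h.tS
  haveI := finite_of_le hVS
  haveI := finite_mulAut V
  have hWV : Q ⊓ U ≤ V := normal_le_centric_radical h.tp (w_normal h hQ) hVc hVr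
  have hQn := normal_le_normalizer hQ
  let A : Subgroup (D.autGroup V) :=
    { carrier := {a | ModExt F Q (Q ⊓ U) V (autFun (a : MulAut V))}
      one_mem' := ⟨id, isMap_id (sup_le hVS hQ.1), fun x hx => (autFun_one hx).symm,
        fun q _ => by rw [id, inv_mul_cancel]; exact one_mem _⟩
      mul_mem' := fun {a b} ha hb => (hb.comp inf_le_left (closed_w h hQ) ha fun x hx =>
        PrimeIndex.autFun_mem _ hx).congr fun x hx => (autFun_mul _ _ hx).symm
      inv_mem' := fun {a} ha => by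
        obtain ⟨n, hn⟩ : ∃ n : ℕ, a⁻¹ = a ^ n := ⟨orderOf a - 1, by
          rw [inv_eq_iff_mul_eq_one, ← pow_succ', Nat.sub_add_cancel (orderOf_pos a), pow_orderOf_eq_one]⟩
        show ModExt F Q (Q ⊓ U) V (autFun ((a⁻¹ : D.autGroup V) : MulAut V))
        rw [hn]
        clear hn
        induction n with
        | zero =>
          rw [pow_zero]
          exact ⟨id, isMap_id (sup_le hVS hQ.1), fun x hx => (autFun_one hx).symm,
            fun q _ => by rw [id, inv_mul_cancel]; exact one_mem _⟩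
        | succ n ih =>
          rw [pow_succ]
          exact (ha.comp inf_le_left (closed_w h hQ) ih fun x hx => PrimeIndex.autFun_mem _ hx).congr
            fun x hx => (autFun_mul _ _ hx).symm }
  obtain ⟨Y, hY⟩ := (fullyAutomized_of_fullyNormalized h.tp h.eSat hVn).2
  have hA : A = ⊤ := by
    refine eq_top_of_sylow_coprime Y A (fun a ha => ?_) fun a ha => ?_
    · rw [hY, Subgroup.mem_subgroupOf, mem_autInducedBy] at ha
      obtain ⟨t, ht, hta⟩ := ha
      refine ⟨fun x => t * x * t⁻¹, isMap_conj (sup_le hVS hQ.1) (h.tS ht),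
        fun x hx => by rw [autFun_of_mem _ hx, hta ⟨x, hx⟩], fun q hq => ⟨?_, ?_⟩⟩
      · exact Q.mul_mem (Q.inv_mem hq) (conj_mem_of_mem_normalizer (hQn (h.tS ht)) hq)
      · show q⁻¹ * (t * q * t⁻¹) ∈ U
        rw [show q⁻¹ * (t * q * t⁻¹) = q⁻¹ * t * q⁻¹⁻¹ * t⁻¹ by group]
        exact U.mul_mem (h.conj_t (S.inv_mem (hQ.1 hq)) ht) (U.inv_mem ht)
    · obtain ⟨R, hR, hRn⟩ := exists_fullyNormalized (F := F) hVS
      obtain ⟨θ, hθ, hθV, hθN, -⟩ := h.exists_normT_map hRn hR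
      have hRc : D.IsCentric R := TClass.eCentric_image h hVc hθV
      have hclW := closed_w h hQ
      have hQcl := stronglyClosed_of_normal hQ
      have hVN : V ≤ normalizerIn S V := le_normalizerIn hVS
      have hQN : Q ≤ normalizerIn S V := fun q hq => by
        refine ⟨hQ.1 hq, Subgroup.mem_normalizer_fintype fun r hr' => ?_⟩
        have h1 : r⁻¹ * (q * r * q⁻¹) ∈ Q ⊓ U := by
          refine ⟨?_, U.mul_mem (U.inv_mem (hVU hr')) (h.conj_t (hQ.1 hq) (hVU hr'))⟩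
          rw [show r⁻¹ * (q * r * q⁻¹) = r⁻¹ * q * r⁻¹⁻¹ * q⁻¹ by group]
          exact Q.mul_mem (conj_mem_of_mem_normalizer (hQn (S.inv_mem (hVS hr'))) hq) (Q.inv_mem hq)
        have := V.mul_mem hr' (hWV h1)
        rwa [mul_inv_cancel_left] at this
      have hWR : Q ⊓ U ≤ R := fun w hw => by
        haveI := finite_of_le (inf_le_left.trans hQ.1 : Q ⊓ U ≤ S)
        obtain ⟨w₀, hw₀, rfl⟩ := surjOn_of_card_le (inf_le_left.trans hQ.1)
          (hθ.injOn.mono fun z hz => hVN (hWV hz)) (fun z hz => hclW _ _ hθ z (hVN (hWV hz)) hz) le_rfl w hw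
        exact hθV.mem (hWV hw₀)
      have haR := transfer_mem h hθV hVU a.2
      obtain ⟨g, hg, hge, hgw⟩ := mod_at_normalized h hQ hRn hRc hWR
        (rad_transfer h hθV hVU (rad_of_isRadical hVr)) haR
        (by rw [MulEquiv.orderOf_eq, Subgroup.orderOf_coe]; exact ha)
      have hL₀ : V ⊔ Q ≤ normalizerIn S V := sup_le hVN hQN
      obtain ⟨L₁, hL₁⟩ := (hθ.mono hL₀).exists_image
      obtain ⟨θi, hθi, hθl, hθr⟩ := hL₁.exists_inv
      have hθQ : ∀ q ∈ Q, θ q ∈ Q := fun q hq => Fusion92.closed_apply hQcl hθ (hQN hq) hq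
      have hRQ : R ⊔ Q ≤ L₁ := by
        refine sup_le (fun y hy => ?_) fun y hy => ?_
        · obtain ⟨x, hx, rfl⟩ := hθV.exists_preimage hy
          exact hL₁.mem (Subgroup.mem_sup_left hx)
        · haveI := finite_of_le hQ.1
          obtain ⟨q, hq, rfl⟩ := surjOn_of_card_le hQ.1 (hθ.injOn.mono hQN) hθQ le_rfl y hy
          exact hL₁.mem (Subgroup.mem_sup_right hq)
      have hθL : ∀ x ∈ V ⊔ Q, θ x ∈ R ⊔ Q := isMap_mem_sup (hθ.mono hL₀) le_sup_left le_sup_right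
        (fun x hx => Subgroup.mem_sup_left (hθV.mem hx)) fun x hx => Subgroup.mem_sup_right (hθQ x hx)
      have hgL : ∀ x ∈ R ⊔ Q, g x ∈ R ⊔ Q := isMap_mem_sup hg le_sup_left le_sup_right
        (fun x hx => Subgroup.mem_sup_left (hge hx ▸ PrimeIndex.autFun_mem _ hx))
        fun x hx => Subgroup.mem_sup_right (by
          have := Q.mul_mem hx (hgw x hx).1
          rwa [mul_inv_cancel_left] at this)
      refine ⟨θi ∘ g ∘ θ, ((hθ.mono hL₀).comp hg hθL).comp hθi.1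
        (fun x hx => hRQ (hgL _ (hθL x hx))), fun x hx => ?_, fun q hq => ?_⟩
      · simp only [Function.comp_apply]
        rw [hge (hθV.mem hx), NormalLift.autFun_congr hθV (a : MulAut V) hx]
        exact hθl _ (Subgroup.mem_sup_left (PrimeIndex.autFun_mem _ hx))
      · have hqL : q ∈ V ⊔ Q := Subgroup.mem_sup_right hq
        have hw := hgw _ (hθQ q hq)
        set w := (θ q)⁻¹ * g (θ q) with hwd
        have hwL : w ∈ L₁ := hRQ (Subgroup.mem_sup_right hw.1)
        simp only [Function.comp_apply]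
        rw [show g (θ q) = θ q * w by rw [hwd]; group, hθi.1.map_mul (hL₁.mem hqL) hwL, hθl q hqL,
          inv_mul_cancel_left]
        exact hclW _ _ hθi.1 w hwL hw
  obtain ⟨α, hα, he⟩ := hf.exists_aut
  exact (show ModExt F Q (Q ⊓ U) V (autFun α) from
    (hA.ge (Subgroup.mem_top (⟨α, hα⟩ : D.autGroup V)) : _)).congr he

end Cfsg.Agent.Fusion92.Layer
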